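import Cfsg.Agent.SylowLinear.Wreath
import Cfsg.Agent.Linear.Torus
import Cfsg.Agent.SympSub.Count

/-!
Sylow 2-subgroups of linear and symplectic groups in odd characteristic, built from those of
`GL_2` and of symmetric groups.
-/

noncomputable section

set_option autoImplicit false
set_option linter.style.haveILetI false
set_option linter.unusedSectionVars false

namespace Cfsg.Agent.SylowLinear

open Matrix Equiv
open scoped commutatorElement MatrixGroups

/-! ### Arithmetic -/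

section Arith

local notation "v₂" => padicValNat 2

variable {q : ℕ}

theorem v_pow_sub_one_odd (hq : Odd q) (h1 : 1 < q) (k : ℕ) :
    v₂ (q ^ (2 * k + 1) - 1) = v₂ (q - 1) := by
  obtain ⟨x, rfl⟩ : ∃ x, q = x + 1 := ⟨q - 1, by omega⟩
  have h := geom_sum_mul_add x (2 * k + 1)
  rw [← h, Nat.add_sub_cancel, Nat.add_sub_cancel]
  set S := ∑ i ∈ Finset.range (2 * k + 1), (x + 1) ^ i with hS
  have hodd : ¬ 2 ∣ S := by
    rw [← ZMod.natCast_eq_zero_iff]
    have hx : ((x + 1 : ℕ) : ZMod 2) = 1 := ZMod.natCast_eq_one_iff_odd.2 hq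
    rw [hS, Nat.cast_sum]
    simp only [Nat.cast_pow, hx, one_pow, Finset.sum_const, Finset.card_range, nsmul_eq_mul, mul_one]
    have h2 : ((2 * k + 1 : ℕ) : ZMod 2) = 1 := ZMod.natCast_eq_one_iff_odd.2 ⟨k, rfl⟩
    rw [h2]
    decide
  rw [padicValNat.mul (fun h0 => hodd (by rw [h0]; exact dvd_zero _)) (by omega),
    padicValNat.eq_zero_of_not_dvd hodd, zero_add]

theorem v_pow_sub_one_even (hq : Odd q) (h1 : 1 < q) (k : ℕ) :
    v₂ (q ^ (2 * (k + 1)) - 1) = v₂ (q ^ 2 - 1) + v₂ (k + 1) := by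
  haveI : Fact (Nat.Prime 2) := ⟨Nat.prime_two⟩
  have hq2 : ¬ 2 ∣ q := by obtain ⟨r, hr⟩ := hq; omega
  have hd : 2 ∣ q - 1 := by omega
  have a := padicValNat.pow_two_sub_pow h1 hd hq2 (n := 2 * (k + 1)) (by omega) (even_two_mul _)
  have b := padicValNat.pow_two_sub_pow h1 hd hq2 (n := 2) (by omega) even_two
  rw [one_pow, padicValNat.mul two_ne_zero (by omega)] at a
  rw [one_pow] at b
  have e : v₂ 2 = 1 := padicValNat.self (by norm_num)
  omega

theorem pow_sub_one_ne (h1 : 1 < q) (k : ℕ) : q ^ (k + 1) - 1 ≠ 0 := by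
  have := Nat.one_lt_pow (show k + 1 ≠ 0 by omega) h1
  omega

theorem v_prod_even (hq : Odd q) (h1 : 1 < q) (m : ℕ) :
    v₂ (∏ i ∈ Finset.range m, (q ^ (2 * (i + 1)) - 1)) = m * v₂ (q ^ 2 - 1) + v₂ m.factorial := by
  haveI : Fact (Nat.Prime 2) := ⟨Nat.prime_two⟩
  induction m with
  | zero => simp
  | succ m ih =>
    have hne : ∀ i : ℕ, q ^ (2 * (i + 1)) - 1 ≠ 0 := fun i => by
      rw [show 2 * (i + 1) = (2 * i + 1) + 1 by ring]; exact pow_sub_one_ne h1 _
    rw [Finset.prod_range_succ, padicValNat.mul (Finset.prod_ne_zero_iff.2 fun i _ => hne i)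
      (hne m), ih, v_pow_sub_one_even hq h1, Nat.factorial_succ,
      padicValNat.mul (Nat.succ_ne_zero m) (Nat.factorial_ne_zero m)]
    ring

theorem v_prod_all (hq : Odd q) (h1 : 1 < q) (m : ℕ) :
    v₂ (∏ i ∈ Finset.range (2 * m), (q ^ (i + 1) - 1)) =
      m * v₂ (q - 1) + m * v₂ (q ^ 2 - 1) + v₂ m.factorial := by
  haveI : Fact (Nat.Prime 2) := ⟨Nat.prime_two⟩
  induction m with
  | zero => simp
  | succ m ih =>
    have hne : ∀ n : ℕ, ∏ i ∈ Finset.range n, (q ^ (i + 1) - 1) ≠ 0 := fun n =>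
      Finset.prod_ne_zero_iff.2 fun i _ => pow_sub_one_ne h1 i
    rw [show 2 * (m + 1) = 2 * m + 1 + 1 by ring, Finset.prod_range_succ,
      padicValNat.mul (hne _) (pow_sub_one_ne h1 _), Finset.prod_range_succ,
      padicValNat.mul (hne _) (pow_sub_one_ne h1 _), ih, v_pow_sub_one_odd hq h1,
      show 2 * m + 1 + 1 = 2 * (m + 1) by ring, v_pow_sub_one_even hq h1, Nat.factorial_succ,
      padicValNat.mul (Nat.succ_ne_zero m) (Nat.factorial_ne_zero m)]
    ring

end Arith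

variable {F : Type*} [Field F] [Fintype F]

local notation "qF" => Fintype.card F
local notation "v₂" => padicValNat 2

theorem v_card_GL (hF : Odd qF) (n : ℕ) :
    v₂ (Nat.card (GL (Fin n) F)) = v₂ (∏ i ∈ Finset.range n, (qF ^ (i + 1) - 1)) := by
  haveI : Fact (Nat.Prime 2) := ⟨Nat.prime_two⟩
  have h1 := Fintype.one_lt_card (α := F)
  rw [Linear.card_GL_factor, Fin.prod_univ_eq_prod_range (fun i => qF ^ (n - i) - 1),
    ← Finset.prod_range_reflect]
  have hne : ∏ j ∈ Finset.range n, (qF ^ (n - (n - 1 - j)) - 1) =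
      ∏ i ∈ Finset.range n, (qF ^ (i + 1) - 1) := Finset.prod_congr rfl fun j hj => by
    rw [Finset.mem_range] at hj
    rw [show n - (n - 1 - j) = j + 1 by omega]
  have hodd : ¬ 2 ∣ qF := by obtain ⟨r, hr⟩ := hF; omega
  rw [hne, padicValNat.mul (pow_ne_zero _ (by omega))
    (Finset.prod_ne_zero_iff.2 fun i _ => pow_sub_one_ne h1 i), padicValNat.pow,
    padicValNat.eq_zero_of_not_dvd hodd, mul_zero, zero_add]

theorem v_card_SL_add (n : ℕ) [NeZero n] :
    v₂ (Nat.card (GL (Fin n) F)) =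
      v₂ (qF - 1) + v₂ (Nat.card (SpecialLinearGroup (Fin n) F)) := by
  haveI : Fact (Nat.Prime 2) := ⟨Nat.prime_two⟩
  have h1 := Fintype.one_lt_card (α := F)
  rw [Linear.card_GL_eq_mul_card_SL, Nat.card_units, Nat.card_eq_fintype_card (α := F),
    padicValNat.mul (by omega) Nat.card_pos.ne']

/-- A square is a commutator in a generalized quaternion group. -/
theorem quaternion_sq (k : ℕ) (hk : 1 ≤ k) (y : QuaternionGroup (2 ^ k)) :
    ∃ a b : QuaternionGroup (2 ^ k), y * y = ⁅a, b⁆ := by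
  obtain ⟨j, rfl⟩ : ∃ j, k = j + 1 := ⟨k - 1, by omega⟩
  have key : ∀ i : ZMod (2 * 2 ^ (j + 1)),
      ⁅QuaternionGroup.a i, QuaternionGroup.xa 0⁆ = QuaternionGroup.a (i + i) := by
    intro i
    rw [commutatorElement_def]
    rw [mul_inv_eq_iff_eq_mul, mul_inv_eq_iff_eq_mul]
    simp [QuaternionGroup.a_mul_xa, QuaternionGroup.xa_mul_a]
  cases y with
  | a i => exact ⟨.a i, .xa 0, by rw [key, QuaternionGroup.a_mul_a]⟩
  | xa i =>
    refine ⟨.a ((2 ^ j : ℕ) : ZMod (2 * 2 ^ (j + 1))), .xa 0, ?_⟩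
    rw [key, QuaternionGroup.xa_mul_xa, ← Nat.cast_add, add_sub_cancel_right,
      show 2 ^ j + 2 ^ j = 2 ^ (j + 1) by ring]

/-- The data in `GL_2`. -/
theorem exists_two_data (hF : Odd qF) : ∃ (S Q : Subgroup (GL (Fin 2) F)) (μ : Subgroup Fˣ),
    Q ≤ S ∧ (∀ t ∈ μ, dgl t ∈ S) ∧ (∀ g ∈ S, GeneralLinearGroup.det g ∈ μ) ∧
    (∀ g ∈ S, GeneralLinearGroup.det g = 1 → g ∈ Q) ∧
    (∀ g ∈ Q, GeneralLinearGroup.det g = 1) ∧ SqComm Q ∧
    Nat.card S = 2 ^ (v₂ (qF - 1) + v₂ (qF ^ 2 - 1)) ∧ Nat.card Q = 2 ^ v₂ (qF ^ 2 - 1) ∧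
    Nat.card μ = 2 ^ v₂ (qF - 1) := by
  haveI : Fact (Nat.Prime 2) := ⟨Nat.prime_two⟩
  have h1 := Fintype.one_lt_card (α := F)
  obtain ⟨μ⟩ : Nonempty (Sylow 2 Fˣ) := inferInstance
  obtain ⟨S, hS⟩ := (μ.2.map (dgl (F := F))).exists_le_sylow
  have hμmax : ∀ H : Subgroup Fˣ, IsPGroup 2 H → H ≤ (μ : Subgroup Fˣ) := by
    intro H hH
    have hsup : IsPGroup 2 (H ⊔ μ : Subgroup Fˣ) := IsPGroup.to_sup_of_normal_right hH μ.2
    exact le_sup_left.trans (μ.3 hsup le_sup_right).le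
  set d : GL (Fin 2) F →* Fˣ := GeneralLinearGroup.det with hd
  have hv2 : v₂ (Nat.card (GL (Fin 2) F)) = v₂ (qF - 1) + v₂ (qF ^ 2 - 1) := by
    have h := v_prod_all hF h1 1
    rw [one_mul, one_mul, Nat.factorial_one, padicValNat_one_right, add_zero, mul_one] at h
    rw [v_card_GL hF, h]
  have hcS : Nat.card (S : Subgroup (GL (Fin 2) F)) = 2 ^ (v₂ (qF - 1) + v₂ (qF ^ 2 - 1)) := by
    rw [S.card_eq_multiplicity, Nat.factorization_def _ Nat.prime_two, hv2]
  let f : SL(2, F) →* GL (Fin 2) F := SpecialLinearGroup.toGL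
  have hr : f.range = d.ker := Linear.range_toGL_eq_ker_det
  have hn : f.range.Normal := hr ▸ inferInstance
  have hv : v₂ (Nat.card SL(2, F)) = v₂ (qF ^ 2 - 1) := by
    have := v_card_SL_add (F := F) 2
    omega
  have hcQ : Nat.card ((S : Subgroup (GL (Fin 2) F)) ⊓ d.ker : Subgroup (GL (Fin 2) F)) =
      2 ^ v₂ (qF ^ 2 - 1) := by
    rw [← hr, card_inf_range f SpecialLinearGroup.toGL_injective hn _ (by rw [hcS, hv2]), hv]
  refine ⟨S, (S : Subgroup (GL (Fin 2) F)) ⊓ d.ker, μ, inf_le_left,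
    fun t ht => hS (Subgroup.mem_map_of_mem _ ht),
    fun g hg => hμmax _ (S.2.map d) (Subgroup.mem_map_of_mem _ hg),
    fun g hg hg' => ⟨hg, hg'⟩, fun g hg => hg.2, ?_, hcS, hcQ, ?_⟩
  · -- the quaternion part
    set Q := (S : Subgroup (GL (Fin 2) F)) ⊓ d.ker with hQ
    have hQr : Q ≤ f.range := hr ▸ inf_le_right
    have hc : Nat.card (Q.comap f) = 2 ^ (Nat.card SL(2, F)).factorization 2 := by
      rw [← Subgroup.card_map_of_injective (K := Q.comap f) SpecialLinearGroup.toGL_injective,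
        Subgroup.map_comap_eq_self hQr, hcQ, Nat.factorization_def _ Nat.prime_two, hv]
    obtain ⟨k, hk, ⟨φ⟩⟩ := Linear.sylow_two_SL_two_quaternion hF (Sylow.ofCard (Q.comap f) hc)
    rw [← Subgroup.map_comap_eq_self hQr]
    refine sqComm_map f fun x hx => ?_
    obtain ⟨a, b, hab⟩ := quaternion_sq k hk (φ ⟨x, hx⟩)
    have h := congrArg (fun y => ((φ.symm y : Sylow.ofCard (Q.comap f) hc) : SL(2, F))) hab
    simp only [map_mul, MulEquiv.symm_apply_apply, Subgroup.coe_mul, map_commutatorElement] at h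
    rw [h]
    exact Subgroup.commutator_mem_commutator (φ.symm a).2 (φ.symm b).2
  · rw [μ.card_eq_multiplicity, Nat.factorization_def _ Nat.prime_two, Nat.card_units,
      Nat.card_eq_fintype_card]

/-- A Sylow 2-subgroup of the group of blocks, as a subgroup. -/
theorem exists_perm_data (m : ℕ) : ∃ R : Subgroup (Perm (Fin m)), SylowPerm.GenOrd 2 R ∧
    Nat.card R = 2 ^ v₂ m.factorial ∧ (∀ j, m = 2 ^ j → ∀ i i' : Fin m, ∃ s ∈ R, s i = i') := by
  haveI : Fact (Nat.Prime 2) := ⟨Nat.prime_two⟩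
  have hcard : ∀ R : Sylow 2 (Perm (Fin m)), Nat.card (R : Subgroup (Perm (Fin m))) =
      2 ^ v₂ m.factorial := fun R => by
    rw [R.card_eq_multiplicity, Nat.factorization_def _ Nat.prime_two, Nat.card_perm, Nat.card_fin]
  by_cases hj : ∃ j, m = 2 ^ j
  · obtain ⟨j, rfl⟩ := hj
    haveI : NeZero (2 ^ j) := ⟨by positivity⟩
    have hpow : ∀ (k : ℕ) (i : Fin (2 ^ j)), (finRotate (2 ^ j) ^ k) i = i + (Fin.ofNat _ k) := by
      intro k i
      induction k with
      | zero => simp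
      | succ k ih =>
        rw [pow_succ', Perm.mul_apply, ih, finRotate_apply]
        ext
        simp [Fin.val_add, Fin.ofNat, Nat.add_mod, add_assoc]
    have hP : IsPGroup 2 (Subgroup.zpowers (finRotate (2 ^ j))) := by
      rintro ⟨x, hx⟩
      obtain ⟨z, rfl⟩ := hx
      refine ⟨j, Subtype.ext ?_⟩
      show (finRotate (2 ^ j) ^ z) ^ (2 ^ j) = 1
      rw [← zpow_natCast, ← _root_.zpow_mul, mul_comm, _root_.zpow_mul, zpow_natCast]
      have : finRotate (2 ^ j) ^ (2 ^ j) = 1 := Equiv.ext fun i => by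
        rw [hpow]
        ext
        simp [Fin.val_add, Fin.ofNat]
      rw [this, _root_.one_zpow]
    obtain ⟨R, hR⟩ := hP.exists_le_sylow
    refine ⟨R, (SylowPerm.sylow_gen 2 _ R).1, hcard R, fun _ _ i i' => ?_⟩
    refine ⟨_, hR (pow_mem (Subgroup.mem_zpowers _) ((i' - i : Fin (2 ^ j)) : ℕ)), ?_⟩
    rw [hpow]
    ext
    simp [Fin.val_add, Fin.val_sub, Fin.ofNat]
    have := i.isLt
    have := i'.isLt
    rw [show (i : ℕ) + (2 ^ j - i + i') = i' + 2 ^ j by omega, Nat.add_mod_right,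
      Nat.mod_eq_of_lt i'.isLt]
  · obtain ⟨R⟩ : Nonempty (Sylow 2 (Perm (Fin m))) := inferInstance
    exact ⟨R, (SylowPerm.sylow_gen 2 _ R).1, hcard R, fun j hj' => absurd ⟨j, hj'⟩ hj⟩

/-- Change of coordinates. -/
def reidx {ι κ : Type*} [Fintype ι] [DecidableEq ι] [Fintype κ] [DecidableEq κ] (e : ι ≃ κ) :
    GL ι F ≃* GL κ F :=
  Units.mapEquiv (Matrix.reindexAlgEquiv F F e).toMulEquiv

theorem det_reidx {ι κ : Type*} [Fintype ι] [DecidableEq ι] [Fintype κ] [DecidableEq κ] (e : ι ≃ κ)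
    (g : GL ι F) : GeneralLinearGroup.det (reidx e g) = GeneralLinearGroup.det g := by
  apply Units.ext
  rw [GeneralLinearGroup.val_det_apply, GeneralLinearGroup.val_det_apply]
  exact Matrix.det_reindexAlgEquiv F F e _

/-- `Fin 2 × Fin m` as `Fin (2 * m)`. -/
def blockEquiv (m : ℕ) : Fin 2 × Fin m ≃ Fin (2 * m) := finProdFinEquiv

theorem sq_eq_one_of_four_dvd (hq : 4 ∣ qF + 1) {μ : Subgroup Fˣ}
    (hμ : Nat.card μ = 2 ^ v₂ (qF - 1)) : ∀ t ∈ μ, t * t = 1 := by
  haveI : Fact (Nat.Prime 2) := ⟨Nat.prime_two⟩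
  have h1 := Fintype.one_lt_card (α := F)
  intro t ht
  have h : v₂ (qF - 1) = 1 := by
    obtain ⟨r, hr⟩ := hq
    rw [show qF - 1 = 2 * (2 * r - 1) by omega, padicValNat.mul two_ne_zero (by omega),
      padicValNat.self (by norm_num), padicValNat.eq_zero_of_not_dvd (by omega)]
  have h2 := pow_card_eq_one' (x := (⟨t, ht⟩ : μ))
  rw [hμ, h, pow_one, pow_two] at h2
  exact congrArg Subtype.val h2

/-- `Sp_2n(q)`. -/
theorem symplectic_two (hF : Odd qF) (n : ℕ) (P : Sylow 2 (Matrix.symplecticGroup (Fin n) F)) :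
    ∀ x : (P : Subgroup (Matrix.symplecticGroup (Fin n) F)),
      x ^ 2 ∈ commutator (P : Subgroup (Matrix.symplecticGroup (Fin n) F)) := by
  haveI : Fact (Nat.Prime 2) := ⟨Nat.prime_two⟩
  have h1 := Fintype.one_lt_card (α := F)
  obtain ⟨S, Q, μ, -, -, -, -, hQ1, hQ, -, hQc, -⟩ := exists_two_data hF
  obtain ⟨R, hR, hRc, -⟩ := exists_perm_data n
  let e : Fin 2 × Fin n ≃ Fin n ⊕ Fin n :=
    ((finTwoEquiv.trans Equiv.boolEquivPUnitSumPUnit.{0, 0}).prodCongr (Equiv.refl _)).trans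
      ((Equiv.sumProdDistrib _ _ _).trans (Equiv.sumCongr (Equiv.punitProd.{0} _) (Equiv.punitProd.{0} _)))
  let f : Matrix.symplecticGroup (Fin n) F →* GL (Fin n ⊕ Fin n) F :=
    (Matrix.symplecticGroup (Fin n) F).subtype.toHomUnits
  have hf : Function.Injective f := fun a b h => Subtype.ext (congrArg Units.val h)
  set J2 : Matrix (Fin 2) (Fin 2) F := !![0, -1; 1, 0]
  have hJ : Matrix.reindexAlgEquiv F F e (blockDiagonal fun _ : Fin n => J2) =
      Matrix.J (Fin n) F := by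
    have hJ' : (Matrix.J (Fin n) F).submatrix e e = blockDiagonal fun _ : Fin n => J2 := by
      ext ⟨a, i⟩ ⟨b, j⟩
      fin_cases a <;> fin_cases b <;>
        simp [e, J2, Matrix.J, blockDiagonal_apply, Matrix.one_apply, finTwoEquiv,
          Equiv.boolEquivPUnitSumPUnit] <;>
        split_ifs <;> simp
    rw [← hJ']
    ext i j
    simp [Matrix.reindexAlgEquiv_apply]
  let h : GL (Fin 2 × Fin n) F →* GL (Fin n ⊕ Fin n) F := (reidx e).toMonoidHom
  have hmem : ∀ g : GL (Fin 2 × Fin n) F,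
      (g : Matrix (Fin 2 × Fin n) (Fin 2 × Fin n) F) * (blockDiagonal fun _ => J2) *
        (g : Matrix (Fin 2 × Fin n) (Fin 2 × Fin n) F)ᵀ =
        (blockDiagonal fun _ => J2) → h g ∈ f.range := by
    intro g hg
    have hs : Matrix.reindexAlgEquiv F F e (g : Matrix (Fin 2 × Fin n) (Fin 2 × Fin n) F) ∈ Matrix.symplecticGroup (Fin n) F := by
      have ht : (Matrix.reindexAlgEquiv F F e (g : Matrix (Fin 2 × Fin n) (Fin 2 × Fin n) F))ᵀ =
          Matrix.reindexAlgEquiv F F e (g : Matrix (Fin 2 × Fin n) (Fin 2 × Fin n) F)ᵀ := by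
        simp [Matrix.reindexAlgEquiv_apply]
      rw [SymplecticGroup.mem_iff, ← hJ, ht, ← map_mul, ← map_mul, hg]
    exact ⟨⟨_, hs⟩, Units.ext rfl⟩
  have hW : (wr Q R).map h ≤ f.range := by
    rintro _ ⟨g, ⟨c, hc, s, -, rfl⟩, rfl⟩
    rw [map_mul]
    refine mul_mem (hmem _ ?_) (hmem _ ?_)
    · rw [blk_val, blockDiagonal_transpose, ← blockDiagonal_mul, ← blockDiagonal_mul]
      congr 1
      funext i
      have hd : (c i : Matrix (Fin 2) (Fin 2) F).det = 1 := by
        have := congrArg Units.val (hQ1 _ (hc i))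
        rwa [GeneralLinearGroup.val_det_apply, Units.val_one] at this
      rw [Matrix.det_fin_two] at hd
      ext a b
      fin_cases a <;> fin_cases b <;>
        simp [J2, Matrix.mul_apply, Fin.sum_univ_two] <;>
          first | ring1 | linear_combination hd | linear_combination -hd
    · rw [prm_val, transpose_permMatrix, inv_inv, Perm.permMatrix, Perm.permMatrix,
        PEquiv.toMatrix_toPEquiv_mul, PEquiv.mul_toMatrix_toPEquiv]
      ext ⟨a, i⟩ ⟨b, j⟩
      simp [blockDiagonal_apply, idxPerm, Equiv.prodCongrRight]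
  refine sq_mem_commutator_of_card f hf _ hW ?_ (sqComm_map h (sqComm_wr hQ hR)) P
  rw [Subgroup.card_map_of_injective (f := h) (reidx e).injective, card_wr, hQc, hRc,
    SympSub.card_symplecticGroup, SympSub.spOrder, ← pow_mul, ← pow_add]
  have hodd : ¬ 2 ∣ qF := by obtain ⟨r, hr⟩ := hF; omega
  rw [padicValNat.mul (pow_ne_zero _ (by omega)) (Finset.prod_ne_zero_iff.2 fun i _ => ?_),
    padicValNat.pow, padicValNat.eq_zero_of_not_dvd hodd,
    v_prod_even hF h1]
  · congr 1; ring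
  · rw [show 2 * (i + 1) = (2 * i + 1) + 1 by ring]; exact pow_sub_one_ne h1 _

/-- `SL_2m(q)`. -/
theorem special_even_two (hF : Odd qF) (m : ℕ) (hm : 1 ≤ m)
    (hq : 4 ∣ qF + 1 ∨ ∃ j : ℕ, m = 2 ^ j)
    (P : Sylow 2 (SpecialLinearGroup (Fin (2 * m)) F)) :
    ∀ x : (P : Subgroup (SpecialLinearGroup (Fin (2 * m)) F)),
      x ^ 2 ∈ commutator (P : Subgroup (SpecialLinearGroup (Fin (2 * m)) F)) := by
  haveI : Fact (Nat.Prime 2) := ⟨Nat.prime_two⟩
  have h1 := Fintype.one_lt_card (α := F)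
  haveI : NeZero (2 * m) := ⟨by omega⟩
  obtain ⟨S, Q, μ, hQS, hD, hdet, hker, hQ1, hQ, hSc, -, hμ⟩ := exists_two_data hF
  obtain ⟨R, hR, hRc, htrans⟩ := exists_perm_data m
  let h : GL (Fin 2 × Fin m) F →* GL (Fin (2 * m)) F := (reidx (blockEquiv m)).toMonoidHom
  let f : SpecialLinearGroup (Fin (2 * m)) F →* GL (Fin (2 * m)) F := SpecialLinearGroup.toGL
  have hr : f.range = GeneralLinearGroup.det.ker := Linear.range_toGL_eq_ker_det
  have hn : f.range.Normal := hr ▸ inferInstance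
  have hc : Nat.card ((wr S R).map h) = 2 ^ v₂ (Nat.card (GL (Fin (2 * m)) F)) := by
    rw [Subgroup.card_map_of_injective (f := h) (reidx (blockEquiv m)).injective, card_wr, hSc,
      hRc, ← pow_mul, ← pow_add, v_card_GL hF, v_prod_all hF h1]
    congr 1
    ring
  have hinf : (wr S R ⊓ (⊥ : Subgroup Fˣ).comap GeneralLinearGroup.det).map h =
      (wr S R).map h ⊓ f.range := by
    rw [hr]
    ext x
    simp only [Subgroup.mem_inf, Subgroup.mem_map, MonoidHom.mem_ker, Subgroup.mem_comap,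
      Subgroup.mem_bot]
    constructor
    · rintro ⟨y, ⟨hy, hy'⟩, rfl⟩
      exact ⟨⟨y, hy, rfl⟩, (det_reidx _ y).trans hy'⟩
    · rintro ⟨⟨y, hy, rfl⟩, hx⟩
      exact ⟨y, ⟨hy, (det_reidx _ y).symm.trans hx⟩, rfl⟩
  refine sq_mem_commutator_of_card f SpecialLinearGroup.toGL_injective
    ((wr S R ⊓ (⊥ : Subgroup Fˣ).comap GeneralLinearGroup.det).map h) (hinf ▸ inf_le_right) ?_
    (sqComm_map h ?_) P
  · rw [hinf, card_inf_range f SpecialLinearGroup.toGL_injective hn _ hc]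
  · refine sqComm_of_diag hQS hD hdet hker hQ1 (sqComm_wr hQ hR) ⊥ fun t ht hp => ?_
    rcases hq with h4 | ⟨j, hj⟩
    · rw [← map_mul, show t * t = 1 from funext fun i => sq_eq_one_of_four_dvd h4 hμ _ (ht i),
        map_one]
      exact one_mem _
    · exact diag_sq_mem hD hR (htrans j hj) t ht hp

/-- `SL_{2m+1}(q)`. -/
theorem special_odd_two (hF : Odd qF) (hq : 4 ∣ qF + 1) (m : ℕ)
    (P : Sylow 2 (SpecialLinearGroup (Fin (2 * m + 1)) F)) :
    ∀ x : (P : Subgroup (SpecialLinearGroup (Fin (2 * m + 1)) F)),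
      x ^ 2 ∈ commutator (P : Subgroup (SpecialLinearGroup (Fin (2 * m + 1)) F)) := by
  haveI : Fact (Nat.Prime 2) := ⟨Nat.prime_two⟩
  have h1 := Fintype.one_lt_card (α := F)
  obtain ⟨S, Q, μ, hQS, hD, hdet, hker, hQ1, hQ, hSc, -, hμ⟩ := exists_two_data hF
  obtain ⟨R, hR, hRc, -⟩ := exists_perm_data m
  let E : Matrix (Fin 2 × Fin m) (Fin 2 × Fin m) F → Fˣ →
      Matrix ((Fin 2 × Fin m) ⊕ Fin 1) ((Fin 2 × Fin m) ⊕ Fin 1) F := fun A u =>
    Matrix.fromBlocks A 0 0 (Matrix.diagonal fun _ => (u : F))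
  let g0 : GL (Fin 2 × Fin m) F →* GL ((Fin 2 × Fin m) ⊕ Fin 1) F :=
    MonoidHom.toHomUnits
      { toFun := fun g => E g (GeneralLinearGroup.det g)⁻¹
        map_one' := by simp [E, Matrix.fromBlocks_one]
        map_mul' := fun a b => by
          simp only [E, map_mul, Units.val_mul, _root_.mul_inv_rev, Matrix.fromBlocks_multiply,
            Matrix.diagonal_mul_diagonal]
          simp [mul_comm] }
  let e : (Fin 2 × Fin m) ⊕ Fin 1 ≃ Fin (2 * m + 1) :=
    ((blockEquiv m).sumCongr (Equiv.refl _)).trans finSumFinEquiv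
  let h : GL (Fin 2 × Fin m) F →* GL (Fin (2 * m + 1)) F := (reidx e).toMonoidHom.comp g0
  have hg0 : Function.Injective g0 := fun a b hab => by
    have := congrArg Units.val hab
    exact Units.ext (Matrix.fromBlocks_inj.1 this).1
  let f : SpecialLinearGroup (Fin (2 * m + 1)) F →* GL (Fin (2 * m + 1)) F := SpecialLinearGroup.toGL
  refine sq_mem_commutator_of_card f SpecialLinearGroup.toGL_injective
    ((wr S R ⊓ (⊤ : Subgroup Fˣ).comap GeneralLinearGroup.det).map h) ?_ ?_ (sqComm_map h ?_) P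
  · rw [show f.range = GeneralLinearGroup.det.ker from Linear.range_toGL_eq_ker_det]
    rintro _ ⟨y, -, rfl⟩
    rw [MonoidHom.mem_ker]
    show GeneralLinearGroup.det (reidx e (g0 y)) = 1
    rw [det_reidx]
    apply Units.ext
    rw [GeneralLinearGroup.val_det_apply, Units.val_one]
    show (Matrix.fromBlocks _ 0 0 _).det = 1
    rw [Matrix.det_fromBlocks_zero₂₁, Matrix.det_diagonal, Fin.prod_univ_one,
      ← GeneralLinearGroup.val_det_apply, Units.mul_inv]
  · rw [Subgroup.comap_top, inf_top_eq,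
      Subgroup.card_map_of_injective (f := h) ((reidx e).injective.comp hg0),
      card_wr, hSc, hRc, ← pow_mul, ← pow_add]
    congr 1
    have hs := v_card_SL_add (F := F) (2 * m + 1)
    rw [v_card_GL hF, Finset.prod_range_succ, padicValNat.mul
      (Finset.prod_ne_zero_iff.2 fun i _ => pow_sub_one_ne h1 i) (pow_sub_one_ne h1 _),
      v_prod_all hF h1, v_pow_sub_one_odd hF h1] at hs
    rw [add_mul, mul_comm (padicValNat 2 (qF - 1)), mul_comm (padicValNat 2 (qF ^ 2 - 1))]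
    omega
  · refine sqComm_of_diag hQS hD hdet hker hQ1 (sqComm_wr hQ hR) ⊤ fun t ht _ => ?_
    rw [← map_mul, show t * t = 1 from funext fun i => sq_eq_one_of_four_dvd hq hμ _ (ht i),
      map_one]
    exact one_mem _

end Cfsg.Agent.SylowLinear
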