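import Cfsg.Agent.SylowPerm.Generation
import Cfsg.Agent.Linear.Orders

/-!
Wreath products of `2 × 2` linear groups with permutation groups, as monomial block matrices:
squares lie in the commutator subgroup.
-/

noncomputable section

set_option autoImplicit false
set_option linter.style.haveILetI false
set_option linter.unusedSectionVars false

namespace Cfsg.Agent.SylowLinear

open Matrix Equiv
open scoped commutatorElement

/-- All squares of elements of `W` are in `⁅W, W⁆`. -/
def SqComm {G : Type*} [Group G] (W : Subgroup G) : Prop := ∀ x ∈ W, x * x ∈ ⁅W, W⁆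

theorem sqComm_of_gen {G : Type*} [Group G] {W : Subgroup G}
    (h : W ≤ Subgroup.closure {x | x ∈ W ∧ x * x ∈ ⁅W, W⁆}) : SqComm W := by
  intro x hx
  set φ : W →* Abelianization W := (powMonoidHom 2).comp Abelianization.of with hφ
  have hker : ∀ y : W, φ y = 1 ↔ (y : G) * y ∈ ⁅W, W⁆ := fun y => by
    rw [← Subgroup.map_subtype_commutator, hφ, MonoidHom.comp_apply, powMonoidHom_apply, ← map_pow,
      ← MonoidHom.mem_ker, Abelianization.ker_of, pow_two]
    exact (Subgroup.mem_map_iff_mem (Subgroup.subtype_injective W) (x := y * y)).symm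
  have hle : W ≤ φ.ker.map W.subtype := by
    refine h.trans ((Subgroup.closure_le _).2 ?_)
    rintro y ⟨hy, hy'⟩
    exact ⟨⟨y, hy⟩, (hker ⟨y, hy⟩).2 hy', rfl⟩
  obtain ⟨y, hy, rfl⟩ := hle hx
  exact (hker y).1 hy

theorem sqComm_map {G H : Type*} [Group G] [Group H] (f : G →* H) {W : Subgroup G}
    (h : SqComm W) : SqComm (W.map f) := by
  rintro _ ⟨x, hx, rfl⟩
  rw [← Subgroup.map_commutator, ← map_mul]
  exact Subgroup.mem_map_of_mem f (h x hx)

/-- The step from a subgroup of the right order to every Sylow subgroup. -/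
theorem sq_mem_commutator_of_card {G M : Type*} [Group G] [Finite G] [Group M] (f : G →* M)
    (hf : Function.Injective f) (W : Subgroup M) (hW : W ≤ f.range)
    (hcard : Nat.card W = 2 ^ padicValNat 2 (Nat.card G)) (hsq : SqComm W) (P : Sylow 2 G) :
    ∀ x : (P : Subgroup G), x ^ 2 ∈ commutator (P : Subgroup G) := by
  haveI : Fact (Nat.Prime 2) := ⟨Nat.prime_two⟩
  have hmap : (W.comap f).map f = W := Subgroup.map_comap_eq_self hW
  have hc : Nat.card (W.comap f) = 2 ^ (Nat.card G).factorization 2 := by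
    rw [← Subgroup.card_map_of_injective (K := W.comap f) hf, hmap, hcard,
      Nat.factorization_def _ Nat.prime_two]
  have hsq' : SqComm (W.comap f) := fun x hx => by
    have h := hsq (f x) hx
    rw [← hmap, ← Subgroup.map_commutator, ← map_mul] at h
    exact (Subgroup.mem_map_iff_mem hf).1 h
  obtain ⟨g, hg⟩ := MulAction.exists_smul_eq G (Sylow.ofCard (W.comap f) hc) P
  have hP : (P : Subgroup G) = (W.comap f).map (MulAut.conj g).toMonoidHom := by
    rw [← hg, Sylow.coe_subgroup_smul]; rfl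
  have hsP : SqComm (P : Subgroup G) := hP ▸ sqComm_map _ hsq'
  intro x
  have h := hsP x x.2
  rw [← Subgroup.map_subtype_commutator] at h
  rw [pow_two]
  exact (Subgroup.mem_map_iff_mem (Subgroup.subtype_injective _) (x := x * x)).1 h

/-- The intersection of a Sylow subgroup with a normal subgroup has Sylow order. -/
theorem card_inf_range {G M : Type*} [Group G] [Finite G] [Group M] [Finite M] (f : G →* M)
    (hf : Function.Injective f) (hn : f.range.Normal) (W : Subgroup M)
    (hW : Nat.card W = 2 ^ padicValNat 2 (Nat.card M)) :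
    Nat.card (W ⊓ f.range : Subgroup M) = 2 ^ padicValNat 2 (Nat.card G) := by
  haveI : Fact (Nat.Prime 2) := ⟨Nat.prime_two⟩
  haveI := hn
  let W' : Sylow 2 M := Sylow.ofCard W (by rw [hW, Nat.factorization_def _ Nat.prime_two])
  obtain ⟨P⟩ : Nonempty (Sylow 2 G) := inferInstance
  obtain ⟨P', hP'⟩ := (P.2.map f).exists_le_sylow
  have heq : (P' : Subgroup M).comap f = (P : Subgroup G) :=
    P.3 (P'.2.comap_of_injective f hf) (Subgroup.map_le_iff_le_comap.1 hP')
  obtain ⟨g, hg⟩ := MulAction.exists_smul_eq M W' P'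
  have hP'eq : (P' : Subgroup M) = W.map (MulAut.conj g).toMonoidHom := by
    rw [← hg, Sylow.coe_subgroup_smul]; rfl
  have hinj : Function.Injective (MulAut.conj g).toMonoidHom := (MulAut.conj g).injective
  have hN : f.range.map (MulAut.conj g).toMonoidHom = f.range := by
    ext x
    constructor
    · rintro ⟨y, hy, rfl⟩
      exact hn.conj_mem y hy g
    · intro hx
      exact ⟨g⁻¹ * x * g, by simpa using hn.conj_mem x hx g⁻¹, by simp [mul_assoc]⟩
  have hinf : (W ⊓ f.range).map (MulAut.conj g).toMonoidHom = (P' : Subgroup M) ⊓ f.range := by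
    rw [hP'eq, Subgroup.map_inf _ _ _ hinj, hN]
  rw [← Subgroup.card_map_of_injective (K := W ⊓ f.range) hinj]
  have h1 : (P' : Subgroup M) ⊓ f.range = (P : Subgroup G).map f := by
    rw [← heq, Subgroup.map_comap_eq, inf_comm]
  rw [show ((W ⊓ f.range).map (MulAut.conj g).toMonoidHom) = _ from hinf.trans h1,
    Subgroup.card_map_of_injective hf, P.card_eq_multiplicity,
    Nat.factorization_def _ Nat.prime_two]

variable {F : Type*} [Field F] {m : ℕ}

/-- Block diagonal matrices. -/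
def blk : (Fin m → GL (Fin 2) F) →* GL (Fin 2 × Fin m) F where
  toFun c := ⟨blockDiagonal fun i => (c i : Matrix (Fin 2) (Fin 2) F),
    blockDiagonal fun i => (((c i)⁻¹ : GL (Fin 2) F) : Matrix (Fin 2) (Fin 2) F),
    by rw [← blockDiagonal_mul]; simp only [← Units.val_mul, mul_inv_cancel, Units.val_one]
       exact blockDiagonal_one,
    by rw [← blockDiagonal_mul]; simp only [← Units.val_mul, inv_mul_cancel, Units.val_one]
       exact blockDiagonal_one⟩
  map_one' := Units.ext (by simp only [Pi.one_apply, Units.val_one]; exact blockDiagonal_one)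
  map_mul' c d := Units.ext (by
    simp only [Pi.mul_apply, Units.val_mul]
    exact blockDiagonal_mul _ _)

theorem blk_val (c : Fin m → GL (Fin 2) F) : ((blk c : GL (Fin 2 × Fin m) F) :
    Matrix (Fin 2 × Fin m) (Fin 2 × Fin m) F) =
      blockDiagonal fun i => (c i : Matrix (Fin 2) (Fin 2) F) := rfl

/-- The permutation of indices attached to a permutation of blocks. -/
def idxPerm : Perm (Fin m) →* Perm (Fin 2 × Fin m) where
  toFun s := prodCongrRight fun _ => s
  map_one' := by ext ⟨a, i⟩ <;> rfl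
  map_mul' s t := by ext ⟨a, i⟩ <;> rfl

/-- Permutations of blocks. -/
def prm (F : Type*) [Field F] {m : ℕ} : Perm (Fin m) →* GL (Fin 2 × Fin m) F :=
  ((Matrix.permMatrixHom (n := Fin 2 × Fin m) (R := F)).comp idxPerm).toHomUnits

theorem prm_val (s : Perm (Fin m)) : ((prm F s : GL (Fin 2 × Fin m) F) :
    Matrix (Fin 2 × Fin m) (Fin 2 × Fin m) F) = (idxPerm s)⁻¹.permMatrix F := rfl

theorem prm_mul_blk (s : Perm (Fin m)) (c : Fin m → GL (Fin 2) F) :
    prm F s * blk c = blk (fun i => c (s⁻¹ i)) * prm F s := by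
  apply Units.ext
  rw [Units.val_mul, Units.val_mul, prm_val, blk_val, blk_val, Perm.permMatrix,
    PEquiv.toMatrix_toPEquiv_mul, PEquiv.mul_toMatrix_toPEquiv]
  ext ⟨a, i⟩ ⟨b, j⟩
  simp only [submatrix_apply, id_eq, blockDiagonal_apply]
  change (if s⁻¹ i = j then (c (s⁻¹ i) : Matrix _ _ F) a b else 0) =
    if i = s j then (c (s⁻¹ i) : Matrix _ _ F) a b else 0
  exact if_congr Perm.inv_eq_iff_eq rfl rfl

theorem det_blk (c : Fin m → GL (Fin 2) F) :
    GeneralLinearGroup.det (blk c) = ∏ i, GeneralLinearGroup.det (c i) := by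
  apply Units.ext
  rw [Units.coe_prod, GeneralLinearGroup.val_det_apply, blk_val, det_blockDiagonal]
  rfl

theorem det_prm (s : Perm (Fin m)) : GeneralLinearGroup.det (prm F s) = 1 := by
  apply Units.ext
  rw [GeneralLinearGroup.val_det_apply, prm_val, det_permutation, Perm.sign_inv]
  show ((Perm.sign (prodCongrRight fun _ : Fin 2 => s) : ℤ) : F) = 1
  rw [Perm.sign_prodCongrRight, Finset.prod_const, Finset.card_univ, Fintype.card_fin,
    Int.units_sq]
  simp

theorem blk_mul_prm_inj {c d : Fin m → GL (Fin 2) F} {s t : Perm (Fin m)}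
    (h : blk c * prm F s = blk d * prm F t) : c = d ∧ s = t := by
  have hent : ∀ (c : Fin m → GL (Fin 2) F) (s : Perm (Fin m)) a b i j,
      ((blk c * prm F s : GL (Fin 2 × Fin m) F) : Matrix _ _ F) (a, i) (b, j) =
        if i = s j then (c i : Matrix (Fin 2) (Fin 2) F) a b else 0 := by
    intro c s a b i j
    rw [Units.val_mul, prm_val, blk_val, Perm.permMatrix, PEquiv.mul_toMatrix_toPEquiv]
    simp only [submatrix_apply, id_eq, blockDiagonal_apply]
    rfl
  have hst : s = t := by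
    refine Equiv.ext fun j => by_contra fun hne => ?_
    have h2 : ∀ a b, (c (s j) : Matrix (Fin 2) (Fin 2) F) a b = 0 := fun a b => by
      have h1 := congrArg (fun g : GL (Fin 2 × Fin m) F =>
        (g : Matrix (Fin 2 × Fin m) (Fin 2 × Fin m) F) (a, s j) (b, j)) h
      simpa only [hent, if_true, if_neg hne] using h1
    exact GeneralLinearGroup.det_ne_zero (c (s j)) (by rw [Matrix.det_fin_two]; simp [h2])
  subst hst
  refine ⟨funext fun i => Units.ext (Matrix.ext fun a b => ?_), rfl⟩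
  have h1 := congrArg (fun g : GL (Fin 2 × Fin m) F =>
    (g : Matrix (Fin 2 × Fin m) (Fin 2 × Fin m) F) (a, i) (b, s⁻¹ i)) h
  simpa [hent] using h1

/-- The monomial block group. -/
def wr (S : Subgroup (GL (Fin 2) F)) (R : Subgroup (Perm (Fin m))) :
    Subgroup (GL (Fin 2 × Fin m) F) where
  carrier := {g | ∃ c : Fin m → GL (Fin 2) F, (∀ i, c i ∈ S) ∧ ∃ s ∈ R, g = blk c * prm F s}
  one_mem' := ⟨1, fun _ => one_mem _, 1, one_mem _, by rw [map_one, map_one, one_mul]⟩
  mul_mem' := by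
    rintro _ _ ⟨c, hc, s, hs, rfl⟩ ⟨d, hd, t, ht, rfl⟩
    refine ⟨c * fun i => d (s⁻¹ i), fun i => mul_mem (hc i) (hd _), s * t, mul_mem hs ht, ?_⟩
    calc blk c * prm F s * (blk d * prm F t) = blk c * (prm F s * blk d) * prm F t := by
          simp only [mul_assoc]
      _ = _ := by rw [prm_mul_blk, map_mul, map_mul]; simp only [mul_assoc]
  inv_mem' := by
    rintro _ ⟨c, hc, s, hs, rfl⟩
    refine ⟨fun i => c⁻¹ (s i), fun i => inv_mem (hc _), s⁻¹, inv_mem hs, ?_⟩
    rw [_root_.mul_inv_rev, ← map_inv, ← map_inv, prm_mul_blk]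
    simp only [inv_inv]

theorem card_wr [Finite F] (S : Subgroup (GL (Fin 2) F)) (R : Subgroup (Perm (Fin m))) :
    Nat.card (wr S R) = Nat.card S ^ m * Nat.card R := by
  have hb : Function.Bijective (fun v : (Fin m → S) × R =>
      (⟨blk (fun i => (v.1 i : GL (Fin 2) F)) * prm F v.2,
        fun i => (v.1 i : GL (Fin 2) F), fun i => (v.1 i).2, v.2, v.2.2, rfl⟩ : wr S R)) := by
    constructor
    · rintro ⟨c, s⟩ ⟨d, t⟩ h
      obtain ⟨h1, h2⟩ := blk_mul_prm_inj (Subtype.ext_iff.1 h)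
      exact Prod.ext (funext fun i => Subtype.ext (congrFun h1 i)) (Subtype.ext h2)
    · rintro ⟨g, c, hc, s, hs, rfl⟩
      exact ⟨(fun i => ⟨c i, hc i⟩, ⟨s, hs⟩), rfl⟩
  rw [← Nat.card_eq_of_bijective _ hb, Nat.card_prod, Nat.card_fun, Nat.card_fin]

theorem blk_mem_wr {S : Subgroup (GL (Fin 2) F)} {R : Subgroup (Perm (Fin m))}
    {c : Fin m → GL (Fin 2) F} (hc : ∀ i, c i ∈ S) : blk c ∈ wr S R :=
  ⟨c, hc, 1, one_mem _, by rw [map_one, mul_one]⟩

theorem prm_mem_wr {S : Subgroup (GL (Fin 2) F)} {R : Subgroup (Perm (Fin m))} {s : Perm (Fin m)}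
    (hs : s ∈ R) : prm F s ∈ wr S R :=
  ⟨1, fun _ => one_mem _, s, hs, by rw [map_one, one_mul]⟩

theorem sqComm_wr {Q : Subgroup (GL (Fin 2) F)} {R : Subgroup (Perm (Fin m))} (hQ : SqComm Q)
    (hR : SylowPerm.GenOrd 2 R) : SqComm (wr Q R) := by
  classical
  refine sqComm_of_gen ?_
  rintro _ ⟨c, hc, s, hs, rfl⟩
  refine mul_mem ?_ ?_
  · have hle : Subgroup.pi Set.univ (fun _ : Fin m => Q) ≤ (Subgroup.closure
        {x | x ∈ wr Q R ∧ x * x ∈ ⁅wr Q R, wr Q R⁆}).comap blk := by
      rw [Subgroup.pi_le_iff]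
      intro i
      rintro _ ⟨q, hq, rfl⟩
      have hle' : Q.map (blk.comp (MonoidHom.mulSingle (fun _ : Fin m => GL (Fin 2) F) i)) ≤
          wr Q R := by
        rintro _ ⟨y, hy, rfl⟩
        refine blk_mem_wr fun j => ?_
        rw [MonoidHom.mulSingle_apply]
        rcases eq_or_ne j i with rfl | hne
        · rw [Pi.mulSingle_eq_same]; exact hy
        · rw [Pi.mulSingle_eq_of_ne hne]; exact one_mem _
      refine Subgroup.subset_closure ⟨hle' ⟨q, hq, rfl⟩, ?_⟩
      refine Subgroup.commutator_mono hle' hle' ?_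
      exact sqComm_map _ hQ _ ⟨q, hq, rfl⟩
    exact hle fun i _ => hc i
  · have h := SylowPerm.genOrd_map (prm F) hR (Subgroup.mem_map_of_mem _ hs)
    refine Subgroup.closure_mono ?_ h
    rintro x ⟨⟨t, ht, rfl⟩, h2⟩
    exact ⟨prm_mem_wr ht, by rw [← pow_two, h2]; exact one_mem _⟩

/-- `diag(t, 1)`. -/
def dgl : Fˣ →* GL (Fin 2) F where
  toFun t := ⟨!![(t : F), 0; 0, 1], !![(↑t⁻¹ : F), 0; 0, 1],
    by ext i j; fin_cases i <;> fin_cases j <;> simp [Matrix.mul_apply, Fin.sum_univ_two],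
    by ext i j; fin_cases i <;> fin_cases j <;> simp [Matrix.mul_apply, Fin.sum_univ_two]⟩
  map_one' := Units.ext (by ext i j; fin_cases i <;> fin_cases j <;> simp)
  map_mul' s t := Units.ext (by
    ext i j; fin_cases i <;> fin_cases j <;> simp [Matrix.mul_apply, Fin.sum_univ_two])

theorem det_dgl (t : Fˣ) : GeneralLinearGroup.det (dgl t) = t := by
  apply Units.ext
  rw [GeneralLinearGroup.val_det_apply]
  show Matrix.det !![(t : F), 0; 0, 1] = _
  rw [Matrix.det_fin_two_of, mul_one, mul_zero, sub_zero]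

/-- Block diagonal `diag(t_i, 1)`. -/
def dblk : (Fin m → Fˣ) →* GL (Fin 2 × Fin m) F :=
  blk.comp (MonoidHom.pi fun i => dgl.comp (Pi.evalMonoidHom _ i))

theorem dblk_apply (t : Fin m → Fˣ) : dblk t = blk fun i => dgl (t i) := rfl

variable {S Q : Subgroup (GL (Fin 2) F)} {R : Subgroup (Perm (Fin m))} {μ : Subgroup Fˣ}

/-- The reduction to the diagonal elements. -/
theorem sqComm_of_diag (hQS : Q ≤ S) (hD : ∀ t ∈ μ, dgl t ∈ S)
    (hdet : ∀ g ∈ S, GeneralLinearGroup.det g ∈ μ)
    (hker : ∀ g ∈ S, GeneralLinearGroup.det g = 1 → g ∈ Q)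
    (hQ1 : ∀ g ∈ Q, GeneralLinearGroup.det g = 1) (hsq : SqComm (wr Q R))
    (N : Subgroup Fˣ)
    (hdiag : ∀ t : Fin m → Fˣ, (∀ i, t i ∈ μ) → ∏ i, t i ∈ N →
      dblk t * dblk t ∈ ⁅wr S R ⊓ N.comap GeneralLinearGroup.det,
        wr S R ⊓ N.comap GeneralLinearGroup.det⁆) :
    SqComm (wr S R ⊓ N.comap GeneralLinearGroup.det) := by
  have hle : wr Q R ≤ wr S R ⊓ N.comap GeneralLinearGroup.det := by
    rintro _ ⟨c, hc, s, hs, rfl⟩
    refine ⟨⟨c, fun i => hQS (hc i), s, hs, rfl⟩, ?_⟩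
    change GeneralLinearGroup.det _ ∈ N
    rw [map_mul, det_prm, mul_one, det_blk, Finset.prod_eq_one fun i _ => hQ1 _ (hc i)]
    exact one_mem _
  refine sqComm_of_gen ?_
  rintro _ ⟨⟨c, hc, s, hs, rfl⟩, hN⟩
  replace hN : GeneralLinearGroup.det (blk c * prm F s) ∈ N := hN
  rw [map_mul, det_prm, mul_one, det_blk] at hN
  set t : Fin m → Fˣ := fun i => GeneralLinearGroup.det (c i) with ht
  have hq : ∀ i, c i * (dgl (t i))⁻¹ ∈ Q := fun i =>
    hker _ (mul_mem (hc i) (inv_mem (hD _ (hdet _ (hc i)))))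
      (by rw [map_mul, map_inv, det_dgl, mul_inv_cancel])
  have hsplit : blk c = blk (fun i => c i * (dgl (t i))⁻¹) * dblk t := by
    rw [dblk_apply, ← map_mul]
    congr 1
    funext i
    rw [Pi.mul_apply, inv_mul_cancel_right]
  have hgen : ∀ y ∈ wr Q R, y ∈ Subgroup.closure {x | x ∈ wr S R ⊓ N.comap GeneralLinearGroup.det ∧
      x * x ∈ ⁅wr S R ⊓ N.comap GeneralLinearGroup.det,
        wr S R ⊓ N.comap GeneralLinearGroup.det⁆} := fun y hy =>
    Subgroup.subset_closure ⟨hle hy, Subgroup.commutator_mono hle hle (hsq y hy)⟩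
  rw [hsplit]
  refine mul_mem (mul_mem (hgen _ (blk_mem_wr hq)) (Subgroup.subset_closure ⟨?_, ?_⟩))
    (hgen _ (prm_mem_wr hs))
  · refine ⟨blk_mem_wr fun i => hD _ (hdet _ (hc i)), ?_⟩
    change GeneralLinearGroup.det _ ∈ N
    rw [dblk_apply, det_blk]
    simp only [det_dgl]
    exact hN
  · exact hdiag t (fun i => hdet _ (hc i)) hN

theorem prm_mul_dblk (s : Perm (Fin m)) (t : Fin m → Fˣ) :
    prm F s * dblk t = dblk (fun i => t (s⁻¹ i)) * prm F s := prm_mul_blk s _

set_option maxHeartbeats 800000 in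
/-- The diagonal elements of determinant one, for a transitive group of blocks. -/
theorem diag_sq_mem (hD : ∀ t ∈ μ, dgl t ∈ S) (hR : SylowPerm.GenOrd 2 R)
    (htrans : ∀ i j : Fin m, ∃ s ∈ R, s i = j) (t : Fin m → Fˣ) (ht : ∀ i, t i ∈ μ)
    (hprod : ∏ i, t i ∈ (⊥ : Subgroup Fˣ)) :
    dblk t * dblk t ∈ ⁅wr S R ⊓ (⊥ : Subgroup Fˣ).comap GeneralLinearGroup.det,
      wr S R ⊓ (⊥ : Subgroup Fˣ).comap GeneralLinearGroup.det⁆ := by
  classical
  set W := wr S R ⊓ (⊥ : Subgroup Fˣ).comap GeneralLinearGroup.det with hW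
  let P : Fin m → Fin m → Fˣ → (Fin m → Fˣ) := fun i j x => Pi.mulSingle i x * Pi.mulSingle j x⁻¹
  let rel : Fin m → Fin m → Prop := fun i j =>
    ∀ x ∈ μ, dblk (P i j x) * dblk (P i j x) ∈ ⁅W, W⁆
  have hreliff : ∀ i j, rel i j ↔ ∀ x ∈ μ, dblk (P i j x) * dblk (P i j x) ∈ ⁅W, W⁆ :=
    fun _ _ => Iff.rfl
  have hPmem : ∀ i j, ∀ x ∈ μ, dblk (P i j x) ∈ W := by
    intro i j x hx
    refine ⟨blk_mem_wr fun k => hD _ (mul_mem ?_ ?_), ?_⟩
    · show (Pi.mulSingle i x : Fin m → Fˣ) k ∈ μ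
      rw [Pi.mulSingle_apply]; split_ifs
      exacts [hx, one_mem _]
    · show (Pi.mulSingle j x⁻¹ : Fin m → Fˣ) k ∈ μ
      rw [Pi.mulSingle_apply]; split_ifs
      exacts [inv_mem hx, one_mem _]
    · change GeneralLinearGroup.det _ ∈ (⊥ : Subgroup Fˣ)
      rw [Subgroup.mem_bot, dblk_apply, det_blk]
      simp only [det_dgl, P, Pi.mul_apply, Finset.prod_mul_distrib,
        Fintype.prod_pi_mulSingle', mul_inv_cancel]
  have hrefl : ∀ i, rel i i := fun i x hx => by
    simp [P, ← Pi.mulSingle_mul]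
  have htr : ∀ i j k, rel i j → rel j k → rel i k := by
    intro i j k h1 h2 x hx
    have he : P i k x = P i j x * P j k x := by
      simp only [P, Pi.mulSingle_inv]
      group
    have h3 := mul_mem (h1 x hx) (h2 x hx)
    rw [← map_mul, ← map_mul, ← map_mul] at h3
    rw [← map_mul, he, mul_mul_mul_comm]
    exact h3
  have hinv : ∀ s ∈ R, s ^ 2 = 1 → ∀ i, rel i (s i) := by
    intro s hs hs2 i x hx
    have hss : s⁻¹ = s := inv_eq_of_mul_eq_one_right (by rw [← pow_two, hs2])
    have hsW : prm F s ∈ W :=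
      ⟨prm_mem_wr hs, by
        change GeneralLinearGroup.det _ ∈ (⊥ : Subgroup Fˣ)
        rw [det_prm]; exact one_mem _⟩
    have hsw : (fun k => P i (s i) x (s⁻¹ k)) = (P i (s i) x)⁻¹ := by
      funext k
      have e1 : s k = i ↔ k = s i := by
        rw [← Perm.eq_inv_iff_eq, hss]
      have e2 : s k = s i ↔ k = i := s.injective.eq_iff
      simp only [P, hss, Pi.mul_apply, Pi.inv_apply, Pi.mulSingle_apply, e1, e2]
      split_ifs <;> simp [mul_comm]
    have h := Subgroup.commutator_mem_commutator (hPmem i (s i) x hx) hsW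
    have hc : ⁅dblk (P i (s i) x), prm F s⁆ = dblk (P i (s i) x) * dblk (P i (s i) x) := by
      rw [commutatorElement_def, ← map_inv, mul_assoc (dblk _) (prm F s) _, prm_mul_dblk]
      rw [mul_assoc (dblk _), mul_assoc (dblk _), mul_inv_cancel, mul_one]
      congr 2
      funext k
      have := congrFun hsw k
      simp only [Pi.inv_apply] at this ⊢
      rw [this, inv_inv]
    rwa [hc] at h
  have hall : ∀ s ∈ R, ∀ i, rel i (s i) := by
    intro s hs
    clear_value rel
    refine Subgroup.closure_induction (p := fun y _ => ∀ i, rel i (y i))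
      (fun x hx i => hinv x hx.1 hx.2 i)
      (fun i => by rw [Perm.one_apply]; exact hrefl i)
      (fun x y _ _ h1 h2 i => by rw [Perm.mul_apply]; exact htr _ _ _ (h2 i) (h1 (y i)))
      (fun x _ h1 i => ?_) (hR hs)
    rw [hreliff]
    intro z hz
    have h3 := (hreliff _ _).1 (h1 (x⁻¹ i)) z⁻¹ (inv_mem hz)
    rw [Perm.inv_def, Equiv.apply_symm_apply] at h3
    rw [Perm.inv_def]
    have he : P i (x.symm i) z = P (x.symm i) i z⁻¹ := by simp [P, mul_comm]
    rwa [he]
  rcases isEmpty_or_nonempty (Fin m) with hE | ⟨⟨i0⟩⟩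
  · rw [Subsingleton.elim t 1, map_one, one_mul]
    exact one_mem _
  have hrel : ∀ i, rel i i0 := fun i => by
    obtain ⟨s, hs, hsi⟩ := htrans i i0
    exact hsi ▸ hall s hs i
  have hdec : t = ∏ i, P i i0 (t i) := by
    rw [Subgroup.mem_bot] at hprod
    simp only [P, Finset.prod_mul_distrib, Finset.univ_prod_mulSingle]
    have h1 : ∏ i : Fin m, (Pi.mulSingle i0 (t i)⁻¹ : Fin m → Fˣ) = 1 := by
      funext k
      rw [Finset.prod_apply, Pi.one_apply]
      simp only [Pi.mulSingle_apply]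
      split_ifs
      · rw [Finset.prod_inv_distrib, hprod, inv_one]
      · exact Finset.prod_const_one
    rw [h1, mul_one]
  rw [hdec, ← map_mul, ← Finset.prod_mul_distrib]
  change _ ∈ (⁅W, W⁆).comap dblk
  refine Subgroup.prod_mem _ fun i _ => ?_
  rw [Subgroup.mem_comap, map_mul]
  exact (hreliff _ _).1 (hrel i) (t i) (ht i)

end Cfsg.Agent.SylowLinear
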